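import Groth.Agent.StVal.Main
import Groth.Agent.AlgStLib.QuasiCompactImm
import Groth.Agent.AlgStLib.AffineMor
import Groth.Agent.AlgStLib.SpProps
import Groth.Agent.AlgStLib.OverSpace
import Groth.Agent.AlgSpVal.DvrThrough

/-!
# Discrete valuation rings realizing specializations on stacks
-/

set_option autoImplicit false
set_option backward.isDefEq.respectTransparency false
set_option backward.isDefEq.respectTransparency.types false

universe u

open CategoryTheory CategoryTheory.Functor CategoryTheory.Limits AlgebraicGeometry Opposite AlgSp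

namespace Groth.Agent.StVal

open Groth.Agent.FibBase Groth.Agent.AlgSpLib Groth.Agent.AlgStLib

variable {S : Scheme.{u}} {𝒳 𝒴 : AlgSt.Cat S}

local notation "Ket" => Scheme.etalePrecoverage

/-- Functors from quasi-compact schemes into stacks with quasi-compact diagonal are quasi-compact. -/
theorem repByAlgSpWith_qc_of_qc_diag [QuasiSeparatedSpace S] (h𝒴 : FibCat.IsFibGrpd 𝒴.p)
    (hΔ : AlgSt.RepByAlgSpWith IsQuasiCompactMor (FibCat.diag (FibCat.toSelf 𝒴))) {W : Over S} [CompactSpace W.left]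
    (z : FibCat.overCat W ⥤ᵇ 𝒴) : AlgSt.RepByAlgSpWith IsQuasiCompactMor z := by
  refine repByAlgSpWith_of_diag stableBC_isQuasiCompactMor stableComp_isQuasiCompactMor
    (fun hF hG a ha => property_of_repBySpWith
      (isLocalOnBase_fppf_of_fpqc isLocalOnBase_fpqc_isQuasiCompactMor) hF hG ha)
    (isFibGrpd_overCat W) h𝒴 isFibGrpd_selfOver (eqToIso (eq_toSelf (BasedFunctor.comp z (FibCat.toSelf 𝒴)))) ?_ hΔ
  exact (repByAlgSpWith_isQuasiCompactMor_iff (isAlgStack_overCat W) isStack_selfOver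
    repByAlgSpWith_diag_toSelf_selfOver (repByAlgSp1_toSelf_overCat W)).2
    (isQuasiCompactMor_toSelf (isAlgStack_overCat W) (isQuasiCompact_overCat W))

theorem exists_dvr_realizing [QuasiSeparatedSpace S] (h𝒳 : AlgSt.IsAlgStack Ket 𝒳) (h𝒴 : AlgSt.IsAlgStack Ket 𝒴)
    (hn𝒴 : AlgSt.SmoothLocally (fun T => IsLocallyNoetherian T) 𝒴)
    (hq𝒴 : AlgSt.IsQuasiSeparatedOver 𝒴)
    (f : 𝒳 ⥤ᵇ 𝒴) (hft : AlgSt.LocQ (LocP @LocallyOfFiniteType) f)
    (hqc : AlgSt.IsQuasiCompactMor Ket f)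
    (x : AlgSt.Points 𝒳) (y₀ : AlgSt.Points 𝒴) (hsp : AlgSt.Points.map f x ⤳ y₀) :
    ∃ (R : Type u) (_ : CommRing R) (_ : IsDomain R) (_ : IsDiscreteValuationRing R)
      (sR : Spec (CommRingCat.of R) ⟶ S)
      (a : FibCat.overCat (Over.mk (Spec.map (CommRingCat.ofHom (algebraMap R (FractionRing R))) ≫ sR)) ⥤ᵇ 𝒳)
      (b : FibCat.overCat (Over.mk sR) ⥤ᵇ 𝒴),
      Nonempty (BasedFunctor.comp a f ≅
        BasedFunctor.comp (AlgSt.overMap (Over.homMk (Spec.map (CommRingCat.ofHom (algebraMap R (FractionRing R)))) rfl :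
          Over.mk (Spec.map (CommRingCat.ofHom (algebraMap R (FractionRing R))) ≫ sR) ⟶ Over.mk sR)) b) ∧
      (∀ p, AlgSt.Points.ofChart a p = x) ∧
      AlgSt.Points.ofChart b (IsLocalRing.closedPoint R) = y₀ := by
  obtain ⟨V₀, y, hy, hy'⟩ := id h𝒴.atlas
  obtain ⟨v₀, hv₀⟩ := ofChart_surjective h𝒴.isStack.1 hy' y₀
  obtain ⟨O, hO, hvO, -⟩ := exists_isAffineOpen_mem_and_subset (U := (⊤ : V₀.left.Opens)) (x := v₀) trivial
  let V : Over S := Over.mk (O.ι ≫ V₀.hom)
  let ι : V ⟶ V₀ := Over.homMk O.ι rfl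
  let b := BasedFunctor.comp (AlgSt.overMap ι) y
  have hb : AlgSt.RepByAlgSpWith (LocP @Smooth) b :=
    repByAlgSpWith_locP_comp (isFibGrpd_overCat V) (isFibGrpd_overCat V₀)
      (repByAlgSpWith_overMap stableBC_locP (locP_of_repWith ((repWith_yon_map_iff _ ι).2
        (inferInstanceAs (Smooth O.ι))))) hy
  let v : ↥V.left := ⟨v₀, hvO⟩
  have hv : AlgSt.Points.ofChart b v = y₀ := by
    rw [ofChart_overMap]
    exact hv₀
  have : IsAffine V.left := hO
  have : IsLocallyNoetherian V.left := hn𝒴 V b hb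
  obtain ⟨X₀, c₁, -, hc₁'⟩ := id h𝒳.atlas
  obtain ⟨u₁, hu₁⟩ := ofChart_surjective h𝒳.isStack.1 hc₁' x
  let W : Over S := Over.mk (X₀.left.fromSpecResidueField u₁ ≫ X₀.hom)
  let ρ : W ⟶ X₀ := Over.homMk (X₀.left.fromSpecResidueField u₁) rfl
  have : CompactSpace W.left := inferInstanceAs (CompactSpace (Spec (X₀.left.residueField u₁)))
  let z := BasedFunctor.comp (BasedFunctor.comp (AlgSt.overMap ρ) c₁) f
  have hzx : ∀ w : ↥W.left, AlgSt.Points.ofChart z w = AlgSt.Points.map f x := fun w => by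
    rw [ofChart_comp, ofChart_overMap, ← hu₁]
    exact congrArg (fun t => AlgSt.Points.map f (AlgSt.Points.ofChart c₁ t))
      (X₀.left.fromSpecResidueField_apply u₁ w)
  obtain ⟨F, e, he, ha⟩ := repByAlgSpWith_qc_of_qc_diag h𝒴.isStack.1
    (repByAlgSpWith_mono (fun _ _ _ h => h.1) hq𝒴) z V b
  obtain ⟨T, c, hT, -, hc'⟩ := isQuasiCompact_of_equiv he (isQuasiCompact_ofSp F
    (ha (IsAlgSpace.yon_obj V) (isQuasiCompactSp_yon V) (𝟙 _) (𝟙 F.obj) _
      (IsPullback.of_horiz_isIso ⟨(Category.id_comp _).trans (Category.comp_id _).symm⟩)))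
  have := hT
  obtain ⟨k, ⟨jk⟩⟩ := exists_mapB (BasedFunctor.comp c (FibCat.fpFst b z))
  have hkT : ∀ s, AlgSt.Points.map (FibCat.fpFst b z) (AlgSt.Points.ofChart c s) = ptAt V (k.left s) :=
    map_ofChart_overMap jk.symm
  have hkx : ∀ s, AlgSt.Points.ofChart b (k.left s) = AlgSt.Points.map f x := fun s => by
    obtain ⟨w, hw⟩ := ptAt_surjective W (AlgSt.Points.map (FibCat.fpSnd b z) (AlgSt.Points.ofChart c s))
    rw [ofChart_eq_map, ← hkT, ← pts_map_comp, pts_map_congr (FibCat.fpIso b z), pts_map_comp, ← hw,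
      ← ofChart_eq_map, hzx]
  have hcl : v ∈ closure (Set.range k.left) := by
    rw [mem_closure_iff]
    intro O' hO' hvO'
    obtain ⟨w, hw, hwx⟩ := hsp.mem_open
      (isOpenMap_ofChart h𝒴.isStack.1 (repByAlgSpWith_flat_of_smooth hb) (repByAlgSpWith_lfp_of_smooth hb) O' hO')
      ⟨v, hvO', hv⟩
    obtain ⟨w₁⟩ : Nonempty ↥W.left := ⟨IsLocalRing.closedPoint (X₀.left.residueField u₁)⟩
    obtain ⟨m, hm, -⟩ := exists_pts_fp (isFibGrpd_overCat W) h𝒴.isStack.1 (isFibGrpd_overCat V) z b (ptAt V w)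
      (ptAt W w₁) (by rw [← ofChart_eq_map, ← ofChart_eq_map, hzx, hwx])
    obtain ⟨s, rfl⟩ := ofChart_surjective (fp_isFibGrpd (isFibGrpd_overCat V) (isFibGrpd_overCat W) h𝒴.isStack.1) hc' m
    rw [hkT] at hm
    exact ⟨w, hw, s, eq_of_ptAt hm⟩
  obtain ⟨s, hs⟩ := Groth.Agent.AlgSpVal.exists_specializes_of_mem_closure_range k.left hcl
  obtain ⟨m, hm1, hm2⟩ := exists_pts_fp h𝒳.isStack.1 h𝒴.isStack.1 (isFibGrpd_overCat V) f b
    (ptAt V (k.left s)) x (by rw [← ofChart_eq_map, hkx])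
  obtain ⟨U, cU, hU, hcU, hcU'⟩ := hqc (FibCat.overCat V) (isAlgStack_overCat_etale V) (isQuasiCompact_overCat V) b
  obtain ⟨u, rfl⟩ := ofChart_surjective (fp_isFibGrpd (isFibGrpd_overCat V) h𝒳.isStack.1 h𝒴.isStack.1) hcU' m
  obtain ⟨g, ⟨jg⟩⟩ := exists_mapB (BasedFunctor.comp cU (FibCat.fpFst b f))
  have hg : LocallyOfFiniteType g.left :=
    locP_yon_map (P := @LocallyOfFiniteType)
      ((locQS_of_locQ isSmoothLocalST_lft h𝒳.isStack.1 h𝒴.isStack.1 hft).scheme
        (BasedFunctor.comp cU (fpSwap b f)) hb (repByAlgSpWith_postcomp (fpSwap_isEquivOver b f) hcU)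
        (show BasedFunctor.comp (BasedFunctor.comp cU (fpSwap b f)) (FibCat.fpSnd f b) ≅ AlgSt.overMap g
          from jg.symm))
  rw [map_ofChart_overMap jg.symm] at hm1
  obtain ⟨A, _, _, hA, i, kK, hi, hkK, hcomp⟩ := Groth.Agent.AlgSpVal.exists_dvr_path_field g.left u v
    ((eq_of_ptAt hm1).symm ▸ hs)
  let η : Spec (CommRingCat.of (FractionRing A)) ⟶ Spec (CommRingCat.of A) :=
    Spec.map (CommRingCat.ofHom (algebraMap A (FractionRing A)))
  let sA : Spec (CommRingCat.of A) ⟶ S := i ≫ V.hom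
  let iV : Over.mk sA ⟶ V := Over.homMk i rfl
  let kU : Over.mk (η ≫ sA) ⟶ U := Over.homMk kK (by
    show kK ≫ U.hom = η ≫ i ≫ V.hom
    rw [← Over.w g, ← Category.assoc, hcomp, Category.assoc])
  refine ⟨A, inferInstance, inferInstance, hA, sA,
    BasedFunctor.comp (AlgSt.overMap kU) (BasedFunctor.comp cU (FibCat.fpSnd b f)),
    BasedFunctor.comp (AlgSt.overMap iV) b, ⟨?_⟩, fun p => ?_, ?_⟩
  · exact whiskerLeftIso (BasedFunctor.comp (AlgSt.overMap kU) cU) (FibCat.fpIso b f).symm ≪≫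
      whiskerRightIso (whiskerLeftIso (AlgSt.overMap kU) jg.symm ≪≫ overMapCompIso kU g ≪≫
        eqToIso (congrArg (fun t => AlgSt.overMap t)
          (show kU ≫ g = (Over.homMk η rfl : Over.mk (η ≫ sA) ⟶ Over.mk sA) ≫ iV from
            Over.OverMorphism.ext hcomp)) ≪≫
        (overMapCompIso _ iV).symm) b
  · have hp : p = (IsLocalRing.closedPoint (FractionRing A) : ↥(Spec (CommRingCat.of (FractionRing A)))) :=
      Subsingleton.elim (α := PrimeSpectrum (FractionRing A)) _ _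
    rw [hp, ofChart_overMap, show kU.left (IsLocalRing.closedPoint (FractionRing A)) = u from hkK, ofChart_comp, hm2]
  · rw [ofChart_overMap, ← hv]
    exact congrArg (AlgSt.Points.ofChart b) hi

end Groth.Agent.StVal
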