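import Groth.Agent.StVal.Core
import Groth.Agent.AlgStLib.QuasiCompact
import Groth.Agent.AlgStLib.SmoothBootstrap

/-!
# The valuative criterion gives universally closed functors
-/

set_option autoImplicit false
set_option backward.isDefEq.respectTransparency false
set_option backward.isDefEq.respectTransparency.types false

universe u

open CategoryTheory CategoryTheory.Functor CategoryTheory.Limits AlgebraicGeometry Opposite AlgSp

namespace Groth.Agent.StVal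

open Groth.Agent.FibBase Groth.Agent.AlgSpLib Groth.Agent.AlgStLib

variable {S : Scheme.{u}} {𝒳 𝒴 : AlgSt.Cat S}

local notation "Ket" => Scheme.etalePrecoverage

theorem isAlgStack_overCat_etale (U : Over S) : AlgSt.IsAlgStack Ket (FibCat.overCat U : AlgSt.Cat S) :=
  ⟨isStack_etale_of_fppf (isAlgStack_overCat U).isStack, (isAlgStack_overCat U).diag, (isAlgStack_overCat U).atlas⟩

/-- The functor of slices along an identity. -/
def overMapIdIso' (U : Over S) :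
    AlgSt.overMap (𝟙 U) ≅ BasedFunctor.id (FibCat.overCat U : AlgSt.Cat S) :=
  overIso _ _ fun x => by
    show 𝟙 x.left ≫ x.hom = x.hom ≫ 𝟙 U
    simp

theorem isEquivOver_overMap_of_isIso {U V : Over S} (κ : U ⟶ V) [IsIso κ] :
    FibCat.IsEquivOver (AlgSt.overMap κ : FibCat.overCat U ⥤ᵇ (FibCat.overCat V : AlgSt.Cat S)) :=
  ⟨AlgSt.overMap (inv κ),
    ⟨overMapCompIso κ (inv κ) ≪≫ eqToIso (congrArg (fun t => AlgSt.overMap t) (IsIso.hom_inv_id κ)) ≪≫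
      overMapIdIso' U⟩,
    ⟨overMapCompIso (inv κ) κ ≪≫ eqToIso (congrArg (fun t => AlgSt.overMap t) (IsIso.inv_hom_id κ)) ≪≫
      overMapIdIso' V⟩⟩

theorem isClosed_preimage_chart_image (h𝒳 : FibCat.IsFibGrpd 𝒳.p) (h𝒴 : FibCat.IsFibGrpd 𝒴.p) (f : 𝒳 ⥤ᵇ 𝒴)
    (hqc : AlgSt.IsQuasiCompactMor Ket f) (hft : AlgSt.LocQ (LocP @LocallyOfFiniteType) f) (hval : DvrLifting f)
    {𝒵 : AlgSt.Cat S} (h𝒵 : FibCat.IsFibGrpd 𝒵.p) (g : 𝒵 ⥤ᵇ 𝒴)
    (C : Set (AlgSt.Points (FibCat.fp g f))) (hC : IsClosed C)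
    {R Γ : CommRingCat.{u}} [IsNoetherianRing R] (sR : Spec R ⟶ S) (a : R ⟶ Γ)
    (y : FibCat.overCat (Over.mk sR) ⥤ᵇ 𝒴) (hy : AlgSt.RepByAlgSpWith (LocP @Smooth) y)
    (ζ : FibCat.overCat (Over.mk (Spec.map a ≫ sR)) ⥤ᵇ 𝒵) (hζ : AlgSt.RepByAlgSpWith (LocP @Smooth) ζ)
    (e : BasedFunctor.comp ζ g ≅
      BasedFunctor.comp (AlgSt.overMap (Over.homMk (Spec.map a) rfl : Over.mk (Spec.map a ≫ sR) ⟶ Over.mk sR)) y) :
    IsClosed (AlgSt.Points.ofChart ζ ⁻¹' (AlgSt.Points.map (FibCat.fpFst g f) '' C)) := by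
  let V : Over S := Over.mk sR
  let T : Over S := Over.mk (Spec.map a ≫ sR)
  let τ : T ⟶ V := Over.homMk (Spec.map a) rfl
  have : CompactSpace V.left := inferInstanceAs (CompactSpace (Spec R))
  obtain ⟨W₁, x, hW₁, hx, hx'⟩ := hqc (FibCat.overCat V) (isAlgStack_overCat_etale V) (isQuasiCompact_overCat V) y
  have := hW₁
  obtain ⟨k₁, -⟩ := exists_mapB (BasedFunctor.comp (BasedFunctor.comp x (fpSwap y f)) (FibCat.fpSnd f y))
  obtain ⟨B, φ, κ, hκ⟩ : ∃ (B : CommRingCat.{u}) (φ : R ⟶ B) (κ : Over.mk (Spec.map φ ≫ sR) ⟶ W₁),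
      IsIso κ.left := by
    obtain ⟨φ, hφ⟩ := Spec.map_surjective (W₁.left.isoSpec.inv ≫ k₁.left)
    refine ⟨_, φ, Over.homMk W₁.left.isoSpec.inv ?_,
      (inferInstance : IsIso W₁.left.isoSpec.inv)⟩
    show W₁.left.isoSpec.inv ≫ W₁.hom = Spec.map φ ≫ sR
    rw [hφ, Category.assoc]
    exact congrArg _ (Over.w k₁).symm
  have : IsIso κ.left := hκ
  have : IsIso κ := by
    have : IsIso ((Over.forget S).map κ) := hκ
    exact isIso_of_reflects_iso κ (Over.forget S)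
  let w₀ := BasedFunctor.comp (BasedFunctor.comp (AlgSt.overMap κ) x) (fpSwap y f)
  have hκe : FibCat.IsEquivOver (AlgSt.overMap κ : FibCat.overCat _ ⥤ᵇ (FibCat.overCat W₁ : AlgSt.Cat S)) :=
    isEquivOver_overMap_of_isIso κ
  have hw₀ : AlgSt.RepByAlgSpWith (LocP @Smooth) w₀ :=
    repByAlgSpWith_postcomp (fpSwap_isEquivOver y f) (repByAlgSpWith_precomp hκe hx)
  have hw₀' : AlgSt.RepByAlgSpWith IsSurjectiveMor w₀ :=
    repByAlgSpWith_postcomp (fpSwap_isEquivOver y f) (repByAlgSpWith_precomp hκe hx')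
  obtain ⟨k', ⟨j'⟩⟩ := exists_mapB (BasedFunctor.comp w₀ (FibCat.fpSnd f y))
  obtain ⟨φ', hφ'⟩ := Spec.map_surjective k'.left
  have hφe : Spec.map φ ≫ sR = Spec.map φ' ≫ sR := by
    rw [hφ']
    exact (Over.w k').symm
  have hft' : LocallyOfFiniteType k'.left :=
    locP_yon_map (P := @LocallyOfFiniteType) ((locQS_of_locQ isSmoothLocalST_lft h𝒳 h𝒴 hft).scheme w₀ hy hw₀ j'.symm)
  let ι : Over.mk (Spec.map φ' ≫ sR) ⟶ Over.mk (Spec.map φ ≫ sR) := Over.homMk (𝟙 _) (by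
    show 𝟙 _ ≫ Spec.map φ ≫ sR = _
    rw [Category.id_comp]
    exact hφe)
  have : IsIso ι := by
    have : IsIso ((Over.forget S).map ι) := inferInstanceAs (IsIso (𝟙 (Spec B)))
    exact isIso_of_reflects_iso ι (Over.forget S)
  have hι : FibCat.IsEquivOver (AlgSt.overMap ι : FibCat.overCat _ ⥤ᵇ (FibCat.overCat _ : AlgSt.Cat S)) :=
    isEquivOver_overMap_of_isIso ι
  algebraize [φ'.hom, a.hom]
  have : Algebra.FiniteType R B := by
    have h : LocallyOfFiniteType (Spec.map φ') := hφ'.symm ▸ hft'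
    exact (HasRingHomProperty.Spec_iff (P := @LocallyOfFiniteType)).1 h
  let T' : BasedFunctor.comp (BasedFunctor.comp (AlgSt.overMap ι) w₀) (FibCat.fpSnd f y) ≅
      AlgSt.overMap (Over.homMk (Spec.map φ') rfl : Over.mk (Spec.map φ' ≫ sR) ⟶ V) :=
    whiskerLeftIso (AlgSt.overMap ι) j'.symm ≪≫ overMapCompIso ι k' ≪≫
      eqToIso (congrArg (fun t => AlgSt.overMap t) (Over.OverMorphism.ext (by
        show 𝟙 _ ≫ k'.left = Spec.map φ'
        rw [Category.id_comp, hφ'])))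
  -- the base change to the chart
  have : (BasedFunctor.id 𝒴).toFunctor.Full := inferInstanceAs (𝟭 _).Full
  have : (BasedFunctor.id 𝒴).toFunctor.Faithful := inferInstanceAs (𝟭 _).Faithful
  let b := BasedFunctor.comp (AlgSt.overMap τ) y
  let P := FibCat.fp ζ (FibCat.fpFst g f)
  let Φ : P ⥤ᵇ FibCat.fp f b :=
    BasedFunctor.comp (pasteVert ζ g f) (BasedFunctor.comp
      (fpMap (F := b) (G := f) (F' := BasedFunctor.comp ζ g) (G' := f) (a := BasedFunctor.id _)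
        (b := BasedFunctor.id _) (c := BasedFunctor.id _) e.symm (Iso.refl _)) (fpSwap b f))
  have hΦ : FibCat.IsEquivOver Φ :=
    isEquivOver_comp (pasteVert_isEquivOver _ _ _)
      (isEquivOver_comp (fpMap_isEquivOver _ _ isEquivOver_id isEquivOver_id) (fpSwap_isEquivOver _ _))
  obtain ⟨Ψ, hΨ, ⟨eΦ⟩, -⟩ := isEquivOver_inv hΦ
  let G : FibCat.fp f b ⥤ᵇ FibCat.fp g f := BasedFunctor.comp Ψ (FibCat.fpSnd ζ (FibCat.fpFst g f))
  have hgf : FibCat.IsFibGrpd (FibCat.fp g f).p := fp_isFibGrpd h𝒵 h𝒳 h𝒴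
  have hG : AlgSt.RepByAlgSpWith (LocP @Smooth) G := repByAlgSpWith_precomp hΨ (repByAlgSpWith_fpSnd _ hζ)
  let M : Set (AlgSt.Points (FibCat.fp f b)) := AlgSt.Points.map G ⁻¹' C
  have hM : ∀ (U : Over S) (z : FibCat.overCat U ⥤ᵇ FibCat.fp f b), AlgSt.RepByAlgSpWith (LocP @Smooth) z →
      IsClosed (AlgSt.Points.ofChart z ⁻¹' M) := fun U z hz => by
    have h := AlgSt.Points.isOpen_iff.1 hC.isOpen_compl U (BasedFunctor.comp z G)
      (repByAlgSpWith_locP_comp (isFibGrpd_overCat U) (fpTest_isFibGrpd h𝒳 h𝒴 f b) hz hG)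
    rw [Set.preimage_compl, isOpen_compl_iff] at h
    convert h using 1
    ext q
    simp only [M, Set.mem_preimage, ofChart_comp]
  have hfinal := isClosed_image_of_dvrLifting (R := R) (B := B) (Γ := Γ) h𝒳 h𝒴 f hval sR y
    (BasedFunctor.comp (AlgSt.overMap ι) w₀) T' (repByAlgSpWith_precomp hι hw₀) (repByAlgSpWith_precomp hι hw₀') M hM
  suffices key : ∀ t : ↥(Spec Γ), t ∈ AlgSt.Points.ofChart ζ ⁻¹' (AlgSt.Points.map (FibCat.fpFst g f) '' C) ↔
      ∃ μ ∈ M, AlgSt.Points.map (FibCat.fpSnd f b) μ = ptAt T t by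
    rw [show AlgSt.Points.ofChart ζ ⁻¹' (AlgSt.Points.map (FibCat.fpFst g f) '' C) =
      {t : ↥(Spec Γ) | ∃ μ ∈ M, AlgSt.Points.map (FibCat.fpSnd f b) μ = ptAt T t} from Set.ext key]
    exact hfinal
  intro t
  constructor
  · rintro ⟨z, hz, hzt⟩
    obtain ⟨w, hw1, hw2⟩ := exists_pts_fp hgf h𝒵 (isFibGrpd_overCat T) (FibCat.fpFst g f) ζ (ptAt T t) z
      (by rw [← ofChart_eq_map]; exact hzt.symm)
    refine ⟨AlgSt.Points.map Φ w, ?_, ?_⟩
    · show AlgSt.Points.map G (AlgSt.Points.map Φ w) ∈ C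
      have e1 : AlgSt.Points.map G (AlgSt.Points.map Φ w) = z :=
        (pts_map_comp Φ G w).symm.trans
          ((pts_map_congr (whiskerRightIso eΦ (FibCat.fpSnd ζ (FibCat.fpFst g f))) w).trans hw2)
      rw [e1]
      exact hz
    · rw [← pts_map_comp]
      exact hw1
  · rintro ⟨μ, hμ, ht⟩
    obtain ⟨w, rfl⟩ := (pts_bijective_of_isEquivOver hΦ).2 μ
    refine ⟨AlgSt.Points.map (FibCat.fpSnd ζ (FibCat.fpFst g f)) w, ?_, ?_⟩
    · have h : AlgSt.Points.map G (AlgSt.Points.map Φ w) ∈ C := hμ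
      have e1 : AlgSt.Points.map G (AlgSt.Points.map Φ w) =
          AlgSt.Points.map (FibCat.fpSnd ζ (FibCat.fpFst g f)) w :=
        (pts_map_comp Φ G w).symm.trans (pts_map_congr (whiskerRightIso eΦ (FibCat.fpSnd ζ (FibCat.fpFst g f))) w)
      rwa [e1] at h
    · rw [← pts_map_comp, ← pts_map_congr (FibCat.fpIso ζ (FibCat.fpFst g f)), pts_map_comp, ofChart_eq_map]
      refine congrArg (AlgSt.Points.map ζ) ?_
      rw [← pts_map_comp] at ht
      exact ht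

theorem isUnivClosed_of_dvrLifting (h𝒳 : AlgSt.IsAlgStack Ket 𝒳) (h𝒴 : AlgSt.IsAlgStack Ket 𝒴)
    (hn𝒴 : AlgSt.SmoothLocally (fun T => IsLocallyNoetherian T) 𝒴) (f : 𝒳 ⥤ᵇ 𝒴)
    (hqc : AlgSt.IsQuasiCompactMor Ket f) (hft : AlgSt.LocQ (LocP @LocallyOfFiniteType) f) (hval : DvrLifting f) :
    AlgSt.IsUnivClosed Ket f := by
  intro 𝒵 h𝒵 g C hC
  set E := AlgSt.Points.map (FibCat.fpFst g f) '' C
  rw [← isOpen_compl_iff, AlgSt.Points.isOpen_iff]
  intro Z z hz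
  obtain ⟨V, y, hy, hy'⟩ := id h𝒴.atlas
  obtain ⟨T, k, h, ⟨i⟩, -, hR, hsurj⟩ :=
    exists_chart_fp h𝒴.isStack.1 (BasedFunctor.comp z g) (repByAlgSp1_of_repByAlgSpWith hy)
  have hk : Smooth k.left := hR @Smooth (fun _ _ g (_ : Etale g) => inferInstanceAs (Smooth g)) hy
  let ζ := BasedFunctor.comp (AlgSt.overMap k) z
  have hζ : AlgSt.RepByAlgSpWith (LocP @Smooth) ζ :=
    repByAlgSpWith_locP_comp (isFibGrpd_overCat T) (isFibGrpd_overCat Z)
      (repByAlgSpWith_overMap stableBC_locP (locP_of_repWith ((repWith_yon_map_iff _ k).2 hk))) hz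
  suffices hT : IsOpen (AlgSt.Points.ofChart ζ ⁻¹' Eᶜ) by
    have him : k.left '' (AlgSt.Points.ofChart ζ ⁻¹' Eᶜ) = AlgSt.Points.ofChart z ⁻¹' Eᶜ := by
      ext p
      constructor
      · rintro ⟨t, ht, rfl⟩
        rw [Set.mem_preimage, ← ofChart_overMap]
        exact ht
      · intro hp
        obtain ⟨t, rfl⟩ := hsurj hy' p
        exact ⟨t, by rw [Set.mem_preimage, ofChart_overMap]; exact hp, rfl⟩
    rw [← him]
    exact k.left.isOpenMap _ hT
  rw [isOpen_iff_forall_mem_open]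
  intro t ht
  obtain ⟨O, hO, htO, -⟩ := exists_isAffineOpen_mem_and_subset (U := (⊤ : V.left.Opens)) (x := h.left t) trivial
  obtain ⟨P, hP, htP, hPO⟩ := exists_isAffineOpen_mem_and_subset (U := h.left ⁻¹ᵁ O) (x := t) htO
  let sR : Spec Γ(V.left, O) ⟶ S := hO.fromSpec ≫ V.hom
  let a : Γ(V.left, O) ⟶ Γ(T.left, P) := h.left.appLE O P hPO
  have ha : Spec.map a ≫ hO.fromSpec = hP.fromSpec ≫ h.left := hO.SpecMap_appLE_fromSpec h.left hP hPO
  let ρ : Over.mk sR ⟶ V := Over.homMk hO.fromSpec rfl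
  let θ : Over.mk (Spec.map a ≫ sR) ⟶ T := Over.homMk hP.fromSpec (by
    show hP.fromSpec ≫ T.hom = Spec.map a ≫ hO.fromSpec ≫ V.hom
    rw [← Category.assoc, ha, Category.assoc, Over.w h])
  have hsm : ∀ {A B : Over S} (r : A ⟶ B), IsOpenImmersion r.left →
      AlgSt.RepByAlgSpWith (LocP @Smooth) (AlgSt.overMap r) := fun r hr =>
    repByAlgSpWith_overMap stableBC_locP (locP_of_repWith ((repWith_yon_map_iff _ r).2
      (inferInstanceAs (Smooth r.left))))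
  let y₁ := BasedFunctor.comp (AlgSt.overMap ρ) y
  have hy₁ : AlgSt.RepByAlgSpWith (LocP @Smooth) y₁ :=
    repByAlgSpWith_locP_comp (isFibGrpd_overCat _) (isFibGrpd_overCat _) (hsm ρ (inferInstanceAs (IsOpenImmersion hO.fromSpec))) hy
  have : IsLocallyNoetherian (Over.mk sR).left := hn𝒴 _ y₁ hy₁
  have : IsNoetherianRing Γ(V.left, O) := by
    have : IsLocallyNoetherian (Spec Γ(V.left, O)) := this
    exact isLocallyNoetherian_Spec.1 this
  let ζ₁ := BasedFunctor.comp (AlgSt.overMap θ) ζ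
  have hζ₁ : AlgSt.RepByAlgSpWith (LocP @Smooth) ζ₁ :=
    repByAlgSpWith_locP_comp (isFibGrpd_overCat _) (isFibGrpd_overCat _) (hsm θ (inferInstanceAs (IsOpenImmersion hP.fromSpec))) hζ
  have hθ : θ ≫ h = (Over.homMk (Spec.map a) rfl : Over.mk (Spec.map a ≫ sR) ⟶ Over.mk sR) ≫ ρ :=
    Over.OverMorphism.ext ha.symm
  have hcl := isClosed_preimage_chart_image h𝒳.isStack.1 h𝒴.isStack.1 f hqc hft hval h𝒵.isStack.1 g C hC sR a y₁ hy₁
    ζ₁ hζ₁ (whiskerLeftIso (AlgSt.overMap θ) i ≪≫ whiskerRightIso (overMapCompIso θ h ≪≫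
      eqToIso (congrArg (fun r => AlgSt.overMap r) hθ) ≪≫ (overMapCompIso _ ρ).symm) y)
  refine ⟨hP.fromSpec '' (AlgSt.Points.ofChart ζ₁ ⁻¹' E)ᶜ, ?_, hP.fromSpec.isOpenEmbedding.isOpenMap _ hcl.isOpen_compl, ?_⟩
  · rintro _ ⟨p, hp, rfl⟩
    rw [Set.mem_preimage, show hP.fromSpec p = θ.left p from rfl, ← ofChart_overMap]
    exact hp
  · obtain ⟨p, hp⟩ : t ∈ Set.range hP.fromSpec := by rw [hP.range_fromSpec]; exact htP
    refine ⟨p, ?_, hp⟩
    rw [Set.mem_compl_iff, Set.mem_preimage, ofChart_overMap, show θ.left p = t from hp]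
    exact ht

end Groth.Agent.StVal
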