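import Groth.Agent.AlgStLib.ValThrough
import Groth.Agent.AlgStLib.LocQ
import Groth.Agent.FibBase.Slices

/-!
# Base change of charts of a fibre product along maps of the base chart
-/

set_option backward.isDefEq.respectTransparency false
set_option backward.isDefEq.respectTransparency.types false

universe u

open CategoryTheory CategoryTheory.Functor CategoryTheory.Limits AlgebraicGeometry Opposite AlgSp

namespace Groth.Agent.StVal

open Groth.Agent.FibBase Groth.Agent.AlgSpLib Groth.Agent.AlgStLib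

variable {S : Scheme.{u}} {𝒳 𝒴 𝒜 ℬ : AlgSt.Cat S}

/-- Functors into a fibre product over a slice are isomorphic when their components are. -/
def sliceFpIso {T : Over S} {F : 𝒜 ⥤ᵇ FibCat.overCat T} {G : ℬ ⥤ᵇ FibCat.overCat T} {𝒲 : AlgSt.Cat S}
    {y y' : 𝒲 ⥤ᵇ FibCat.fp F G} (i : BasedFunctor.comp y (FibCat.fpFst F G) ≅ BasedFunctor.comp y' (FibCat.fpFst F G))
    (j : BasedFunctor.comp y (FibCat.fpSnd F G) ≅ BasedFunctor.comp y' (FibCat.fpSnd F G)) : y ≅ y' :=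
  BasedNatIso.mkNatIso
    (NatIso.ofComponents
      (fun x => fpIsoMk (x := y.obj x) (y := y'.obj x) (isoApp i x) (isoApp j x) (by
        apply Over.OverMorphism.ext
        have h₁ : (FibCat.overCat T).p.IsHomLift (𝟙 (𝒲.p.obj x)) (F.map (isoApp i x).hom) := by
          have : 𝒜.p.IsHomLift (𝟙 (𝒲.p.obj x)) (isoApp i x).hom := isoApp_lift i rfl
          exact F.preserves_isHomLift _ _
        have h₂ : (FibCat.overCat T).p.IsHomLift (𝟙 (𝒲.p.obj x)) (G.map (isoApp j x).hom) := by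
          have : ℬ.p.IsHomLift (𝟙 (𝒲.p.obj x)) (isoApp j x).hom := isoApp_lift j rfl
          exact G.preserves_isHomLift _ _
        have e₁ := map_eq_of_isHomLift_id (p := Over.forget T) h₁
        have e₂ := map_eq_of_isHomLift_id (p := Over.forget T) h₂
        have e₃ := map_eq_of_isHomLift_id (p := Over.forget T) (y.obj x).property
        have e₄ := map_eq_of_isHomLift_id (p := Over.forget T) (y'.obj x).property
        show (F.map (isoApp i x).hom).left ≫ (y'.obj x).obj.iso.hom.left =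
          (y.obj x).obj.iso.hom.left ≫ (G.map (isoApp j x).hom).left
        simp only [Over.forget_map] at e₁ e₂ e₃ e₄
        rw [e₁, e₂, e₃, e₄]
        simp))
      (fun {x x'} φ => by
        refine ObjectProperty.hom_ext _ (CategoricalPullback.hom_ext ?_ ?_)
        · exact natural i φ
        · exact natural j φ))
    (fun x => fp_isHomLift (F := F) (G := G) (𝟙 (𝒲.p.obj x)) _ (h := isoApp_lift i (a := x) rfl))

/-- The map of fibre products induced by a map of base charts. -/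
def omega (f : 𝒳 ⥤ᵇ 𝒴) {T T₀ : Over S} (τ : T ⟶ T₀) (b : FibCat.overCat T₀ ⥤ᵇ 𝒴) :
    FibCat.fp f (BasedFunctor.comp (AlgSt.overMap τ) b) ⥤ᵇ FibCat.fp f b :=
  fpMap (F := f) (G := b) (F' := f) (G' := BasedFunctor.comp (AlgSt.overMap τ) b)
    (a := BasedFunctor.id _) (b := AlgSt.overMap τ) (c := BasedFunctor.id _) (Iso.refl _) (Iso.refl _)

/-- Pasting followed by the map of fibre products is the projection. -/
def pasteOmegaIso (f : 𝒳 ⥤ᵇ 𝒴) {T T₀ : Over S} (τ : T ⟶ T₀) (b : FibCat.overCat T₀ ⥤ᵇ 𝒴) :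
    BasedFunctor.comp (pasteHor f (AlgSt.overMap τ) b) (omega f τ b) ≅
      FibCat.fpFst (FibCat.fpSnd f b) (AlgSt.overMap τ) :=
  BasedNatIso.mkNatIso
    (NatIso.ofComponents
      (fun η => fpIsoMk (x := (BasedFunctor.comp (pasteHor f (AlgSt.overMap τ) b) (omega f τ b)).obj η)
        (y := η.obj.fst) (Iso.refl _) η.obj.iso.symm (by
          show f.map (𝟙 _) ≫ η.obj.fst.obj.iso.hom =
            (𝟙 _ ≫ (η.obj.fst.obj.iso.hom ≫ b.map η.obj.iso.hom) ≫ 𝟙 _) ≫ b.map η.obj.iso.inv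
          rw [f.toFunctor.map_id, Category.id_comp, Category.id_comp, Category.comp_id, Category.assoc,
            ← b.toFunctor.map_comp, Iso.hom_inv_id, b.toFunctor.map_id, Category.comp_id]))
      (fun {η η'} φ => by
        refine ObjectProperty.hom_ext _ (CategoricalPullback.hom_ext ?_ ?_)
        · show φ.hom.fst.hom.fst ≫ 𝟙 _ = 𝟙 _ ≫ φ.hom.fst.hom.fst
          simp
        · show (AlgSt.overMap τ).map φ.hom.snd ≫ η'.obj.iso.inv = η.obj.iso.inv ≫ φ.hom.fst.hom.snd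
          rw [Iso.eq_inv_comp, ← Category.assoc, Iso.comp_inv_eq]
          exact φ.hom.w.symm))
    (fun η => fp_isHomLift (F := f) (G := b) (𝟙 _) _ (h := IsHomLift.id rfl))

/-- Charts of a fibre product pull back along maps of the base chart. -/
theorem exists_chart_baseChange (h𝒳 : FibCat.IsFibGrpd 𝒳.p) (h𝒴 : FibCat.IsFibGrpd 𝒴.p) (f : 𝒳 ⥤ᵇ 𝒴)
    {T T₀ W W₀ : Over S} (τ : T ⟶ T₀) (b : FibCat.overCat T₀ ⥤ᵇ 𝒴) (w₀ : FibCat.overCat W₀ ⥤ᵇ FibCat.fp f b)
    {k₀ : W₀ ⟶ T₀} (j₀ : BasedFunctor.comp w₀ (FibCat.fpSnd f b) ≅ AlgSt.overMap k₀)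
    (hw₀ : AlgSt.RepByAlgSpWith (LocP @Smooth) w₀) (hw₀' : AlgSt.RepByAlgSpWith IsSurjectiveMor w₀)
    {prT : W ⟶ T} {pr₀ : W ⟶ W₀} (sq : IsPullback prT pr₀ τ k₀) :
    ∃ χ : FibCat.overCat W ⥤ᵇ FibCat.fp f (BasedFunctor.comp (AlgSt.overMap τ) b),
      AlgSt.RepByAlgSpWith (LocP @Smooth) χ ∧ AlgSt.RepByAlgSpWith IsSurjectiveMor χ ∧
      Nonempty (BasedFunctor.comp χ (FibCat.fpSnd f (BasedFunctor.comp (AlgSt.overMap τ) b)) ≅ AlgSt.overMap prT) ∧
      Nonempty (BasedFunctor.comp χ (omega f τ b) ≅ BasedFunctor.comp (AlgSt.overMap pr₀) w₀) ∧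
      ∀ (μ : AlgSt.Points (FibCat.fp f (BasedFunctor.comp (AlgSt.overMap τ) b))) (ω : ↥W₀.left),
        AlgSt.Points.map (omega f τ b) μ = AlgSt.Points.ofChart w₀ ω →
          ∃ q : ↥W.left, AlgSt.Points.ofChart χ q = μ ∧ pr₀.left q = ω := by
  let H := FibCat.fpSnd f b
  let N := FibCat.fp H (AlgSt.overMap τ)
  let c : AlgSt.Cat S := FibCat.fp (FibCat.fpFst H (AlgSt.overMap τ)) w₀
  have hsq : BasedFunctor.comp (BasedFunctor.comp (AlgSt.overMap pr₀) w₀) H ≅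
      BasedFunctor.comp (AlgSt.overMap prT) (AlgSt.overMap τ) :=
    whiskerLeftIso (AlgSt.overMap pr₀) j₀ ≪≫ overMapCompIso pr₀ k₀ ≪≫
      eqToIso (congrArg (fun t => AlgSt.overMap t) sq.w.symm) ≪≫ (overMapCompIso prT τ).symm
  let χN : FibCat.overCat W ⥤ᵇ N :=
    FibCat.fpLift (BasedFunctor.comp (AlgSt.overMap pr₀) w₀) (AlgSt.overMap prT) hsq
  let E : FibCat.overCat W ⥤ᵇ c := FibCat.fpLift χN (AlgSt.overMap pr₀) (Iso.refl _)
  let m : FibCat.fp (BasedFunctor.comp w₀ H) (AlgSt.overMap τ) ⥤ᵇ FibCat.fp (AlgSt.overMap k₀) (AlgSt.overMap τ) :=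
    fpMap (F := AlgSt.overMap k₀) (G := AlgSt.overMap τ) (F' := BasedFunctor.comp w₀ H) (G' := AlgSt.overMap τ)
      (a := BasedFunctor.id _) (b := BasedFunctor.id _) (c := BasedFunctor.id _) j₀.symm (Iso.refl _)
  have : (BasedFunctor.id (FibCat.overCat T₀ : AlgSt.Cat S)).toFunctor.Full := inferInstanceAs (𝟭 _).Full
  have : (BasedFunctor.id (FibCat.overCat T₀ : AlgSt.Cat S)).toFunctor.Faithful :=
    inferInstanceAs (𝟭 _).Faithful
  let M := BasedFunctor.comp (fpSwap (FibCat.fpFst H (AlgSt.overMap τ)) w₀)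
    (BasedFunctor.comp (pasteVert w₀ H (AlgSt.overMap τ)) (BasedFunctor.comp m (fpSwap _ _)))
  have hM : FibCat.IsEquivOver M :=
    isEquivOver_comp (fpSwap_isEquivOver _ _) (isEquivOver_comp (pasteVert_isEquivOver _ _ _)
      (isEquivOver_comp (fpMap_isEquivOver _ _ isEquivOver_id isEquivOver_id) (fpSwap_isEquivOver _ _)))
  let sc : FibCat.overCat W ⥤ᵇ FibCat.fp (AlgSt.overMap τ) (AlgSt.overMap k₀) := sliceCone prT pr₀ τ k₀ sq.w
  have hE : FibCat.IsEquivOver E :=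
    isEquivOver_of_comp_right hM (isEquivOver_of_iso
      (sliceFpIso (y := sc) (y' := BasedFunctor.comp E M) (Iso.refl _) (Iso.refl _)) (sliceCone_isEquivOver sq))
  let PH := pasteHor f (AlgSt.overMap τ) b
  have hPH : FibCat.IsEquivOver PH := pasteHor_isEquivOver f (AlgSt.overMap τ) b
  let χ := BasedFunctor.comp (BasedFunctor.comp E (FibCat.fpFst (FibCat.fpFst H (AlgSt.overMap τ)) w₀)) PH
  refine ⟨χ, repByAlgSpWith_postcomp hPH (repByAlgSpWith_precomp hE (repByAlgSpWith_fpFst _ hw₀)),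
    repByAlgSpWith_postcomp hPH (repByAlgSpWith_precomp hE (repByAlgSpWith_fpFst _ hw₀')), ⟨Iso.refl _⟩,
    ⟨whiskerLeftIso χN (pasteOmegaIso f τ b)⟩, fun μ ω hμ => ?_⟩
  obtain ⟨ν, rfl⟩ := (pts_bijective_of_isEquivOver hPH).2 μ
  rw [← pts_map_comp, pts_map_congr (pasteOmegaIso f τ b), ofChart_eq_map] at hμ
  have hN : FibCat.IsFibGrpd N.p :=
    fp_isFibGrpd (fp_isFibGrpd h𝒳 (isFibGrpd_overCat T₀) h𝒴) (isFibGrpd_overCat T) (isFibGrpd_overCat T₀)
  obtain ⟨w, hw, hw'⟩ := exists_pts_fp (isFibGrpd_overCat W₀) (fp_isFibGrpd h𝒳 (isFibGrpd_overCat T₀) h𝒴) hN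
    w₀ (FibCat.fpFst H (AlgSt.overMap τ)) ν (ptAt W₀ ω) hμ
  obtain ⟨qp, rfl⟩ := (pts_bijective_of_isEquivOver hE).2 w
  obtain ⟨q, rfl⟩ : ∃ q, ptAt W q = qp := ⟨toSch W qp, (toSch_bijective W).1 (toSch_ptAt W _)⟩
  refine ⟨q, ?_, eq_of_ptAt ?_⟩
  · rw [ofChart_eq_map, pts_map_comp, pts_map_comp, hw]
  · rw [← map_overMap_ptAt, ← hw', ← pts_map_comp]
    rfl

end Groth.Agent.StVal
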