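import Groth.Agent.StVal.ChartBC

/-!
# Comparison of functors into base changes, and points of charts
-/

set_option backward.isDefEq.respectTransparency false
set_option backward.isDefEq.respectTransparency.types false

universe u

open CategoryTheory CategoryTheory.Functor CategoryTheory.Limits AlgebraicGeometry Opposite AlgSp

namespace Groth.Agent.StVal

open Groth.Agent.FibBase Groth.Agent.AlgSpLib Groth.Agent.AlgStLib

variable {S : Scheme.{u}} {𝒳 𝒴 𝒲 : AlgSt.Cat S}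

theorem ofChart_congr {U : Over S} {x x' : FibCat.overCat U ⥤ᵇ 𝒳} (i : x ≅ x') (t : ↥U.left) :
    AlgSt.Points.ofChart x t = AlgSt.Points.ofChart x' t := by
  rw [ofChart_eq_map, ofChart_eq_map]
  exact pts_map_congr i _

theorem ofChart_comp {U : Over S} (x : FibCat.overCat U ⥤ᵇ 𝒳) (F : 𝒳 ⥤ᵇ 𝒴) (t : ↥U.left) :
    AlgSt.Points.ofChart (BasedFunctor.comp x F) t = AlgSt.Points.map F (AlgSt.Points.ofChart x t) := by
  rw [ofChart_eq_map, ofChart_eq_map, pts_map_comp]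

theorem ofChart_square {T U V : Over S} {k : T ⟶ U} {h : T ⟶ V} {z : FibCat.overCat U ⥤ᵇ 𝒳}
    {x : FibCat.overCat V ⥤ᵇ 𝒳} (i : BasedFunctor.comp (AlgSt.overMap k) z ≅ BasedFunctor.comp (AlgSt.overMap h) x)
    (s : ↥T.left) : AlgSt.Points.ofChart z (k.left s) = AlgSt.Points.ofChart x (h.left s) := by
  rw [← ofChart_overMap, ← ofChart_overMap]
  exact ofChart_congr i s

theorem map_ofChart_overMap {U V : Over S} {x : FibCat.overCat U ⥤ᵇ 𝒳} {F : 𝒳 ⥤ᵇ FibCat.overCat V} {k : U ⟶ V}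
    (j : BasedFunctor.comp x F ≅ AlgSt.overMap k) (t : ↥U.left) :
    AlgSt.Points.map F (AlgSt.Points.ofChart x t) = ptAt V (k.left t) := by
  rw [ofChart_eq_map, ← pts_map_comp, pts_map_congr j, map_overMap_ptAt]

/-- Functors into a base change are isomorphic when their projections are. -/
theorem nonempty_iso_of_omega (f : 𝒳 ⥤ᵇ 𝒴) {T T₀ : Over S} (τ : T ⟶ T₀) (b : FibCat.overCat T₀ ⥤ᵇ 𝒴)
    {y y' : 𝒲 ⥤ᵇ FibCat.fp f (BasedFunctor.comp (AlgSt.overMap τ) b)}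
    (io : BasedFunctor.comp y (omega f τ b) ≅ BasedFunctor.comp y' (omega f τ b))
    (is : BasedFunctor.comp y (FibCat.fpSnd f (BasedFunctor.comp (AlgSt.overMap τ) b)) ≅
      BasedFunctor.comp y' (FibCat.fpSnd f (BasedFunctor.comp (AlgSt.overMap τ) b))) : Nonempty (y ≅ y') := by
  obtain ⟨g, -, -, ⟨e⟩⟩ := isEquivOver_inv (pasteHor_isEquivOver f (AlgSt.overMap τ) b)
  let H := FibCat.fpSnd f b
  let PH := pasteHor f (AlgSt.overMap τ) b
  have h1 : ∀ z : 𝒲 ⥤ᵇ FibCat.fp f (BasedFunctor.comp (AlgSt.overMap τ) b),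
      Nonempty (BasedFunctor.comp (BasedFunctor.comp z g) (FibCat.fpFst H (AlgSt.overMap τ)) ≅
        BasedFunctor.comp z (omega f τ b)) := fun z =>
    ⟨(whiskerLeftIso (BasedFunctor.comp z g) (pasteOmegaIso f τ b)).symm ≪≫
      whiskerLeftIso z (whiskerRightIso e (omega f τ b))⟩
  have h2 : ∀ z : 𝒲 ⥤ᵇ FibCat.fp f (BasedFunctor.comp (AlgSt.overMap τ) b),
      Nonempty (BasedFunctor.comp (BasedFunctor.comp z g) (FibCat.fpSnd H (AlgSt.overMap τ)) ≅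
        BasedFunctor.comp z (FibCat.fpSnd f (BasedFunctor.comp (AlgSt.overMap τ) b))) := fun z =>
    ⟨whiskerLeftIso z (whiskerRightIso e (FibCat.fpSnd f (BasedFunctor.comp (AlgSt.overMap τ) b)))⟩
  obtain ⟨a⟩ := h1 y
  obtain ⟨a'⟩ := h1 y'
  obtain ⟨c⟩ := h2 y
  obtain ⟨c'⟩ := h2 y'
  exact ⟨(whiskerLeftIso y e).symm ≪≫
    whiskerRightIso (sliceFpIso (a ≪≫ io ≪≫ a'.symm) (c ≪≫ is ≪≫ c'.symm)) PH ≪≫ whiskerLeftIso y' e⟩

/-- Base change along a composite of maps of the base. -/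
def psi (f : 𝒳 ⥤ᵇ 𝒴) {T T₀ V : Over S} (τ₀ : T ⟶ T₀) (i : T₀ ⟶ V) (y : FibCat.overCat V ⥤ᵇ 𝒴) :
    FibCat.fp f (BasedFunctor.comp (AlgSt.overMap τ₀) (BasedFunctor.comp (AlgSt.overMap i) y)) ⥤ᵇ
      FibCat.fp f (BasedFunctor.comp (AlgSt.overMap (τ₀ ≫ i)) y) :=
  fpMap (F := f) (G := BasedFunctor.comp (AlgSt.overMap (τ₀ ≫ i)) y) (F' := f)
    (G' := BasedFunctor.comp (AlgSt.overMap τ₀) (BasedFunctor.comp (AlgSt.overMap i) y))
    (a := BasedFunctor.id _) (b := BasedFunctor.id _) (c := BasedFunctor.id _) (Iso.refl _)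
    (whiskerRightIso (overMapCompIso τ₀ i) y)

theorem psi_isEquivOver (f : 𝒳 ⥤ᵇ 𝒴) {T T₀ V : Over S} (τ₀ : T ⟶ T₀) (i : T₀ ⟶ V)
    (y : FibCat.overCat V ⥤ᵇ 𝒴) : FibCat.IsEquivOver (psi f τ₀ i y) := by
  have : (BasedFunctor.id 𝒴).toFunctor.Full := inferInstanceAs (𝟭 _).Full
  have : (BasedFunctor.id 𝒴).toFunctor.Faithful := inferInstanceAs (𝟭 _).Faithful
  exact fpMap_isEquivOver _ _ isEquivOver_id isEquivOver_id

/-- The two ways of projecting from a base change along a composite. -/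
def psiOmegaIso (f : 𝒳 ⥤ᵇ 𝒴) {T T₀ V : Over S} (τ₀ : T ⟶ T₀) (i : T₀ ⟶ V) (y : FibCat.overCat V ⥤ᵇ 𝒴) :
    BasedFunctor.comp (psi f τ₀ i y) (omega f (τ₀ ≫ i) y) ≅
      BasedFunctor.comp (omega f τ₀ (BasedFunctor.comp (AlgSt.overMap i) y)) (omega f i y) :=
  BasedNatIso.mkNatIso
    (NatIso.ofComponents
      (fun η => fpIsoMk (x := (BasedFunctor.comp (psi f τ₀ i y) (omega f (τ₀ ≫ i) y)).obj η)
        (y := (BasedFunctor.comp (omega f τ₀ (BasedFunctor.comp (AlgSt.overMap i) y)) (omega f i y)).obj η)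
        (Iso.refl _) (isoApp (overMapCompIso τ₀ i) η.obj.snd).symm (by
          show f.map (𝟙 _) ≫ (𝟙 _ ≫ (𝟙 _ ≫ η.obj.iso.hom ≫ 𝟙 _) ≫ 𝟙 _) =
            (𝟙 _ ≫ (𝟙 _ ≫ η.obj.iso.hom ≫ y.map (isoApp (overMapCompIso τ₀ i) η.obj.snd).hom) ≫ 𝟙 _) ≫
              y.map (isoApp (overMapCompIso τ₀ i) η.obj.snd).inv
          simp only [f.toFunctor.map_id, Category.id_comp, Category.comp_id, Category.assoc,
            ← y.toFunctor.map_comp, Iso.hom_inv_id, y.toFunctor.map_id]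
          exact (Category.comp_id _).symm))
      (fun {η η'} φ => by
        refine ObjectProperty.hom_ext _ (CategoricalPullback.hom_ext ?_ ?_)
        · show φ.hom.fst ≫ 𝟙 _ = 𝟙 _ ≫ φ.hom.fst
          simp
        · show (AlgSt.overMap (τ₀ ≫ i)).map φ.hom.snd ≫ (isoApp (overMapCompIso τ₀ i) η'.obj.snd).inv =
            (isoApp (overMapCompIso τ₀ i) η.obj.snd).inv ≫ (AlgSt.overMap i).map ((AlgSt.overMap τ₀).map φ.hom.snd)
          exact natural (overMapCompIso τ₀ i).symm φ.hom.snd))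
    (fun η => fp_isHomLift (F := f) (G := y) (𝟙 _) _ (h := IsHomLift.id rfl))

end Groth.Agent.StVal
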