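import Mathlib.RingTheory.TensorProduct.Maps
import Mathlib.LinearAlgebra.TensorProduct.Finiteness
import Mathlib.RingTheory.Adjoin.FG
import Mathlib.RingTheory.Ideal.Maximal
import Mathlib.RingTheory.Spectrum.Prime.Basic

/-!
# An empty fibre of a closed subset is empty at a finite stage
-/

set_option autoImplicit false

universe u

open scoped TensorProduct

namespace Groth.Agent.StVal

variable {R B Γ : Type u} [CommRing R] [CommRing B] [CommRing Γ] [Algebra R B] [Algebra R Γ]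

/-- If a closed subset of a base change misses the fibre over a prime, then after replacing the base
by a subalgebra of finite type the closure of its image still misses the fibre. -/
theorem exists_fg_fibre_empty (J : Ideal (B ⊗[R] Γ)) (p : Ideal Γ) [p.IsPrime]
    (h : ∀ Q : Ideal (B ⊗[R] Γ), Q.IsPrime → J ≤ Q →
      Q.comap (Algebra.TensorProduct.includeRight (R := R) (A := B) (B := Γ)).toRingHom ≠ p) :
    ∃ Γ₀ : Subalgebra R Γ, Γ₀.FG ∧ ∀ Q₀ : Ideal (B ⊗[R] Γ₀), Q₀.IsPrime →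
      J.comap (Algebra.TensorProduct.map (AlgHom.id R B) Γ₀.val).toRingHom ≤ Q₀ →
      Q₀.comap (Algebra.TensorProduct.includeRight (R := R) (A := B) (B := Γ₀)).toRingHom ≠ p.comap Γ₀.val := by
  classical
  let ι : Γ →+* B ⊗[R] Γ := (Algebra.TensorProduct.includeRight (R := R) (A := B) (B := Γ)).toRingHom
  let P : Ideal (B ⊗[R] Γ) := p.map ι
  obtain ⟨s, hsp, hs⟩ : ∃ s, s ∉ p ∧ ι s ∈ J ⊔ P := by
    by_contra hne
    push Not at hne
    obtain ⟨Q, hQ, hle, hdisj⟩ := Ideal.exists_le_prime_disjoint (J ⊔ P) (p.primeCompl.map ι)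
      (Set.disjoint_left.2 fun z hz hz' => by
        obtain ⟨s, hs, rfl⟩ := hz'
        exact hne s hs hz)
    refine h Q hQ (le_sup_left.trans hle) (le_antisymm (fun z hz => ?_) (fun z hz => ?_))
    · by_contra hzp
      exact Set.disjoint_left.1 hdisj hz ⟨z, hzp, rfl⟩
    · exact hle (Ideal.mem_sup_right (Ideal.mem_map_of_mem ι hz))
  obtain ⟨j, hj, x, hx, hjx⟩ := Submodule.mem_sup.1 hs
  obtain ⟨T, hT, hxT⟩ := Submodule.mem_span_finite_of_mem_span hx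
  obtain ⟨c, -, hc⟩ := Submodule.mem_span_finset.1 hxT
  choose q hq hqι using fun t (ht : t ∈ T) => hT ht
  choose Sc hSc using fun t : B ⊗[R] Γ => TensorProduct.exists_finset (c t)
  let G : Finset Γ := {s} ∪ T.attach.image (fun t => q t.1 t.2) ∪ T.biUnion (fun t => (Sc t).image Prod.snd)
  refine ⟨Algebra.adjoin R (G : Set Γ), ⟨G, rfl⟩, fun Q₀ hQ₀ hle he => ?_⟩
  let Γ₀ := Algebra.adjoin R (G : Set Γ)
  let m := (Algebra.TensorProduct.map (AlgHom.id R B) Γ₀.val).toRingHom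
  let ι₀ : Γ₀ →+* B ⊗[R] Γ₀ := (Algebra.TensorProduct.includeRight (R := R) (A := B) (B := Γ₀)).toRingHom
  have hG : ∀ g ∈ G, g ∈ Γ₀ := fun g hg => Algebra.subset_adjoin (Finset.mem_coe.2 hg)
  have hmι : ∀ g : Γ₀, m (ι₀ g) = ι g := fun g => by simp [m, ι₀, ι]
  have hrange : ∀ t ∈ T, ∃ a, m a = c t := fun t ht => by
    rw [hSc t]
    refine ⟨∑ i ∈ (Sc t).attach, i.1.1 ⊗ₜ[R] (⟨i.1.2, hG _ (Finset.mem_union_right _
      (Finset.mem_biUnion.2 ⟨t, ht, Finset.mem_image.2 ⟨i.1, i.2, rfl⟩⟩))⟩ : Γ₀), ?_⟩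
    rw [map_sum, ← Finset.sum_attach (Sc t)]
    exact Finset.sum_congr rfl fun i _ => by simp [m]
  choose a ha using hrange
  let q₀ : ∀ t (_ : t ∈ T), Γ₀ := fun t ht => ⟨q t ht, hG _ (Finset.mem_union_left _ (Finset.mem_union_right _
    (Finset.mem_image.2 ⟨⟨t, ht⟩, Finset.mem_attach _ _, rfl⟩)))⟩
  let x₀ : B ⊗[R] Γ₀ := ∑ t ∈ T.attach, a t.1 t.2 * ι₀ (q₀ t.1 t.2)
  let s₀ : Γ₀ := ⟨s, hG _ (Finset.mem_union_left _ (Finset.mem_union_left _ (Finset.mem_singleton_self s)))⟩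
  have hmx : m x₀ = x := by
    rw [map_sum, ← hc, ← Finset.sum_attach T]
    refine Finset.sum_congr rfl fun t _ => ?_
    rw [map_mul, ha, hmι, hqι, smul_eq_mul]
  have hj₀ : ι₀ s₀ - x₀ ∈ Q₀ := hle (by
    show m (ι₀ s₀ - x₀) ∈ J
    rw [map_sub, hmι, hmx]
    show ι s - x ∈ J
    rw [← hjx, add_sub_cancel_right]
    exact hj)
  have hx₀ : x₀ ∈ Q₀ := sum_mem fun t _ => Ideal.mul_mem_left _ _ (by
    show q₀ t.1 t.2 ∈ Q₀.comap ι₀
    rw [he]
    exact hq t.1 t.2)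
  refine hsp (show s₀ ∈ p.comap Γ₀.val from ?_)
  rw [← he]
  show ι₀ s₀ ∈ Q₀
  exact (sub_add_cancel (ι₀ s₀) x₀) ▸ Q₀.add_mem hj₀ hx₀

end Groth.Agent.StVal
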