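import Groth.Agent.StVal.Comp
import Groth.Agent.StVal.FibreApprox
import Groth.Agent.Proj16.DVRPath

/-!
# Closed images over affine charts from the valuative criterion
-/

set_option autoImplicit false
set_option backward.isDefEq.respectTransparency false
set_option backward.isDefEq.respectTransparency.types false

universe u

open CategoryTheory CategoryTheory.Functor CategoryTheory.Limits AlgebraicGeometry Opposite AlgSp
open scoped TensorProduct

namespace Groth.Agent.StVal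

open Groth.Agent.FibBase Groth.Agent.AlgSpLib Groth.Agent.AlgStLib

variable {S : Scheme.{u}} {𝒳 𝒴 : AlgSt.Cat S}

/-- The valuative criterion with extensions of discrete valuation rings. -/
abbrev DvrLifting (f : 𝒳 ⥤ᵇ 𝒴) : Prop :=
  ∀ (R : Type u) [CommRing R] [IsDomain R] [IsDiscreteValuationRing R]
    (sR : Spec (CommRingCat.of R) ⟶ S)
    (a : FibCat.overCat (Over.mk (Spec.map (CommRingCat.ofHom (algebraMap R (FractionRing R))) ≫ sR)) ⥤ᵇ 𝒳)
    (b : FibCat.overCat (Over.mk sR) ⥤ᵇ 𝒴)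
    (_α : BasedFunctor.comp a f ≅
      BasedFunctor.comp (AlgSt.overMap (Over.homMk (Spec.map (CommRingCat.ofHom (algebraMap R (FractionRing R)))) rfl :
        Over.mk (Spec.map (CommRingCat.ofHom (algebraMap R (FractionRing R))) ≫ sR) ⟶ Over.mk sR)) b),
    ∃ (R' : Type u) (_ : CommRing R') (_ : IsDomain R') (_ : IsDiscreteValuationRing R') (φ : R →+* R')
      (_ : Function.Injective φ) (_ : IsLocalHom φ)
      (gψ : (Over.mk (Spec.map (CommRingCat.ofHom (algebraMap R' (FractionRing R'))) ≫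
              Spec.map (CommRingCat.ofHom φ) ≫ sR) : Over S) ⟶
            Over.mk (Spec.map (CommRingCat.ofHom (algebraMap R (FractionRing R))) ≫ sR))
      (c : FibCat.overCat (Over.mk (Spec.map (CommRingCat.ofHom φ) ≫ sR)) ⥤ᵇ FibCat.fp f b),
      gψ ≫ (Over.homMk (Spec.map (CommRingCat.ofHom (algebraMap R (FractionRing R)))) rfl :
          Over.mk (Spec.map (CommRingCat.ofHom (algebraMap R (FractionRing R))) ≫ sR) ⟶ Over.mk sR) =
        (Over.homMk (Spec.map (CommRingCat.ofHom (algebraMap R' (FractionRing R')))) rfl :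
            Over.mk (Spec.map (CommRingCat.ofHom (algebraMap R' (FractionRing R'))) ≫
              Spec.map (CommRingCat.ofHom φ) ≫ sR) ⟶ Over.mk (Spec.map (CommRingCat.ofHom φ) ≫ sR)) ≫
          (Over.homMk (Spec.map (CommRingCat.ofHom φ)) rfl :
            Over.mk (Spec.map (CommRingCat.ofHom φ) ≫ sR) ⟶ Over.mk sR) ∧
      Nonempty (BasedFunctor.comp c (FibCat.fpSnd f b) ≅
        AlgSt.overMap (Over.homMk (Spec.map (CommRingCat.ofHom φ)) rfl :
          Over.mk (Spec.map (CommRingCat.ofHom φ) ≫ sR) ⟶ Over.mk sR)) ∧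
      Nonempty (BasedFunctor.comp
          (AlgSt.overMap (Over.homMk (Spec.map (CommRingCat.ofHom (algebraMap R' (FractionRing R')))) rfl :
            Over.mk (Spec.map (CommRingCat.ofHom (algebraMap R' (FractionRing R'))) ≫
              Spec.map (CommRingCat.ofHom φ) ≫ sR) ⟶ Over.mk (Spec.map (CommRingCat.ofHom φ) ≫ sR))) c ≅
        BasedFunctor.comp (AlgSt.overMap gψ)
          (FibCat.fpLift a
            (AlgSt.overMap (Over.homMk (Spec.map (CommRingCat.ofHom (algebraMap R (FractionRing R)))) rfl :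
              Over.mk (Spec.map (CommRingCat.ofHom (algebraMap R (FractionRing R))) ≫ sR) ⟶ Over.mk sR)) _α))

theorem fpTest_isFibGrpd (h𝒳 : FibCat.IsFibGrpd 𝒳.p) (h𝒴 : FibCat.IsFibGrpd 𝒴.p) (f : 𝒳 ⥤ᵇ 𝒴) {T : Over S}
    (b : FibCat.overCat T ⥤ᵇ 𝒴) : FibCat.IsFibGrpd (FibCat.fp f b).p :=
  fp_isFibGrpd h𝒳 (isFibGrpd_overCat T) h𝒴

/-- Preimages of points saturated for a smooth chart have saturated closures. -/
theorem closure_saturated {𝒲 : AlgSt.Cat S} (h𝒲 : FibCat.IsFibGrpd 𝒲.p) {W : Over S} {χ : FibCat.overCat W ⥤ᵇ 𝒲}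
    (hχ : AlgSt.RepByAlgSpWith (LocP @Smooth) χ) {Z : Set ↥W.left}
    (hZ : ∀ v ∈ Z, ∀ w, AlgSt.Points.ofChart χ w = AlgSt.Points.ofChart χ v → w ∈ Z)
    {v w : ↥W.left} (hv : v ∈ closure Z) (h : AlgSt.Points.ofChart χ w = AlgSt.Points.ofChart χ v) :
    w ∈ closure Z := by
  obtain ⟨T, k, l, ⟨i⟩, hjoint, hR, -⟩ := exists_chart_fp h𝒲 χ (repByAlgSp1_of_repByAlgSpWith hχ)
  obtain ⟨s, rfl, rfl⟩ := hjoint v w h.symm
  have hk : Smooth k.left := hR @Smooth (fun _ _ g (_ : Etale g) => inferInstanceAs (Smooth g)) hχ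
  have h1 : s ∈ closure (k.left ⁻¹' Z) := k.left.isOpenMap.preimage_closure_subset_closure_preimage hv
  have h2 : k.left ⁻¹' Z ⊆ l.left ⁻¹' Z := fun r hr => hZ _ hr _ (ofChart_square i r).symm
  exact map_mem_closure l.left.continuous (closure_mono h2 h1) (fun r hr => hr)

theorem closedPoint_map {R R' : Type u} [CommRing R] [IsLocalRing R] [CommRing R'] [IsLocalRing R']
    (φ : R →+* R') [IsLocalHom φ] :
    (Spec.map (CommRingCat.ofHom φ)) (IsLocalRing.closedPoint R') = IsLocalRing.closedPoint R :=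
  IsLocalRing.comap_closedPoint φ

set_option maxHeartbeats 1000000 in
theorem isClosed_image_of_dvrLifting (h𝒳 : FibCat.IsFibGrpd 𝒳.p) (h𝒴 : FibCat.IsFibGrpd 𝒴.p) (f : 𝒳 ⥤ᵇ 𝒴)
    (hval : DvrLifting f)
    {R B Γ : Type u} [CommRing R] [CommRing B] [CommRing Γ] [IsNoetherianRing R] [Algebra R B] [Algebra R Γ]
    [Algebra.FiniteType R B] (sR : Spec (CommRingCat.of R) ⟶ S) (y : FibCat.overCat (Over.mk sR) ⥤ᵇ 𝒴)
    (w₀ : FibCat.overCat (Over.mk (Spec.map (CommRingCat.ofHom (algebraMap R B)) ≫ sR)) ⥤ᵇ FibCat.fp f y)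
    (j₀ : BasedFunctor.comp w₀ (FibCat.fpSnd f y) ≅
      AlgSt.overMap (Over.homMk (Spec.map (CommRingCat.ofHom (algebraMap R B))) rfl :
        Over.mk (Spec.map (CommRingCat.ofHom (algebraMap R B)) ≫ sR) ⟶ Over.mk sR))
    (hw₀ : AlgSt.RepByAlgSpWith (LocP @Smooth) w₀) (hw₀' : AlgSt.RepByAlgSpWith IsSurjectiveMor w₀)
    (M : Set (AlgSt.Points (FibCat.fp f (BasedFunctor.comp
      (AlgSt.overMap (Over.homMk (Spec.map (CommRingCat.ofHom (algebraMap R Γ))) rfl :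
        Over.mk (Spec.map (CommRingCat.ofHom (algebraMap R Γ)) ≫ sR) ⟶ Over.mk sR)) y))))
    (hM : ∀ (U : Over S) (x : FibCat.overCat U ⥤ᵇ FibCat.fp f (BasedFunctor.comp
      (AlgSt.overMap (Over.homMk (Spec.map (CommRingCat.ofHom (algebraMap R Γ))) rfl :
        Over.mk (Spec.map (CommRingCat.ofHom (algebraMap R Γ)) ≫ sR) ⟶ Over.mk sR)) y)),
      AlgSt.RepByAlgSpWith (LocP @Smooth) x → IsClosed (AlgSt.Points.ofChart x ⁻¹' M)) :
    IsClosed {t : ↥(Spec (CommRingCat.of Γ)) | ∃ μ ∈ M, AlgSt.Points.map (FibCat.fpSnd f (BasedFunctor.comp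
      (AlgSt.overMap (Over.homMk (Spec.map (CommRingCat.ofHom (algebraMap R Γ))) rfl :
        Over.mk (Spec.map (CommRingCat.ofHom (algebraMap R Γ)) ≫ sR) ⟶ Over.mk sR)) y)) μ =
      ptAt (Over.mk (Spec.map (CommRingCat.ofHom (algebraMap R Γ)) ≫ sR)) t} := by
  let V : Over S := Over.mk sR
  let W₀ : Over S := Over.mk (Spec.map (CommRingCat.ofHom (algebraMap R B)) ≫ sR)
  let k₀ : W₀ ⟶ V := Over.homMk (Spec.map (CommRingCat.ofHom (algebraMap R B))) rfl
  let T : Over S := Over.mk (Spec.map (CommRingCat.ofHom (algebraMap R Γ)) ≫ sR)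
  let τ : T ⟶ V := Over.homMk (Spec.map (CommRingCat.ofHom (algebraMap R Γ))) rfl
  let incR : CommRingCat.of Γ ⟶ CommRingCat.of (B ⊗[R] Γ) :=
    CommRingCat.ofHom (Algebra.TensorProduct.includeRight (R := R) (A := B) (B := Γ)).toRingHom
  let incL : CommRingCat.of B ⟶ CommRingCat.of (B ⊗[R] Γ) :=
    CommRingCat.ofHom (Algebra.TensorProduct.includeLeftRingHom (R := R) (A := B) (B := Γ))
  have sq' : IsPullback (Spec.map incR) (Spec.map incL) (Spec.map (CommRingCat.ofHom (algebraMap R Γ)))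
      (Spec.map (CommRingCat.ofHom (algebraMap R B))) :=
    (isPullback_SpecMap_of_isPushout _ _ _ _ (CommRingCat.isPushout_tensorProduct R B Γ)).flip
  let W : Over S := Over.mk (Spec.map incR ≫ T.hom)
  let prT : W ⟶ T := Over.homMk (Spec.map incR) rfl
  let pr₀ : W ⟶ W₀ := Over.homMk (Spec.map incL) (by
    show Spec.map incL ≫ Spec.map _ ≫ sR = Spec.map incR ≫ Spec.map _ ≫ sR
    rw [← Category.assoc, ← sq'.w, Category.assoc])
  have sq : IsPullback prT pr₀ τ k₀ := IsPullback.of_map (Over.forget S) (Over.OverMorphism.ext sq'.w) sq'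
  obtain ⟨χ, hχ, hχ', ⟨jT⟩, ⟨jo⟩, -⟩ := exists_chart_baseChange h𝒳 h𝒴 f τ y w₀ j₀ hw₀ hw₀' sq
  have hD : IsClosed (AlgSt.Points.ofChart χ ⁻¹' M) := hM W χ hχ
  have hE : ∀ t : ↥(Spec (CommRingCat.of Γ)),
      (∃ μ ∈ M, AlgSt.Points.map (FibCat.fpSnd f (BasedFunctor.comp (AlgSt.overMap τ) y)) μ = ptAt T t) ↔
      t ∈ prT.left '' (AlgSt.Points.ofChart χ ⁻¹' M) := fun t => by
    constructor
    · rintro ⟨μ, hμ, ht⟩
      obtain ⟨q, rfl⟩ := ofChart_surjective (fpTest_isFibGrpd h𝒳 h𝒴 f _) hχ' μ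
      rw [map_ofChart_overMap jT] at ht
      exact ⟨q, hμ, eq_of_ptAt ht⟩
    · rintro ⟨q, hq, rfl⟩
      exact ⟨_, hq, map_ofChart_overMap jT q⟩
  rw [show {t : ↥(Spec (CommRingCat.of Γ)) | ∃ μ ∈ M, AlgSt.Points.map (FibCat.fpSnd f
    (BasedFunctor.comp (AlgSt.overMap τ) y)) μ = ptAt T t} = prT.left '' (AlgSt.Points.ofChart χ ⁻¹' M) from
      Set.ext hE]
  refine PrimeSpectrum.isClosed_image_of_stableUnderSpecialization incR.hom _ hD ?_
  intro t₁ p hsp ht₁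
  by_contra hp
  obtain ⟨q₁, hq₁, hqt⟩ := ht₁
  obtain ⟨J, hJ⟩ := (PrimeSpectrum.isClosed_iff_zeroLocus_ideal _).1 hD
  have hfib : ∀ Q : Ideal (B ⊗[R] Γ), Q.IsPrime → J ≤ Q →
      Q.comap (Algebra.TensorProduct.includeRight (R := R) (A := B) (B := Γ)).toRingHom ≠ p.asIdeal :=
    fun Q hQ hle he => hp ⟨⟨Q, hQ⟩, hJ.symm ▸ hle, PrimeSpectrum.ext he⟩
  obtain ⟨Γ₀, hfg, hfib₀⟩ := exists_fg_fibre_empty J p.asIdeal hfib
  have : Algebra.FiniteType R Γ₀ := Γ₀.fg_iff_finiteType.1 hfg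
  have : IsNoetherianRing Γ₀ := Algebra.FiniteType.isNoetherianRing R Γ₀
  let T₀ : Over S := Over.mk (Spec.map (CommRingCat.ofHom (algebraMap R Γ₀)) ≫ sR)
  let i₂ : T₀ ⟶ V := Over.homMk (Spec.map (CommRingCat.ofHom (algebraMap R Γ₀))) rfl
  let τ₀ : T ⟶ T₀ := Over.homMk (Spec.map (CommRingCat.ofHom Γ₀.val.toRingHom)) (by
    show Spec.map _ ≫ Spec.map _ ≫ sR = Spec.map _ ≫ sR
    rw [← Category.assoc, ← Spec.map_comp, ← CommRingCat.ofHom_comp]
    rfl)
  have hτ : τ = τ₀ ≫ i₂ := Over.OverMorphism.ext (by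
    show Spec.map _ = Spec.map _ ≫ Spec.map _
    rw [← Spec.map_comp, ← CommRingCat.ofHom_comp]
    rfl)
  let incR₀ : CommRingCat.of Γ₀ ⟶ CommRingCat.of (B ⊗[R] Γ₀) :=
    CommRingCat.ofHom (Algebra.TensorProduct.includeRight (R := R) (A := B) (B := Γ₀)).toRingHom
  let incL₀ : CommRingCat.of B ⟶ CommRingCat.of (B ⊗[R] Γ₀) :=
    CommRingCat.ofHom (Algebra.TensorProduct.includeLeftRingHom (R := R) (A := B) (B := Γ₀))
  have sq₀' : IsPullback (Spec.map incR₀) (Spec.map incL₀) (Spec.map (CommRingCat.ofHom (algebraMap R Γ₀)))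
      (Spec.map (CommRingCat.ofHom (algebraMap R B))) :=
    (isPullback_SpecMap_of_isPushout _ _ _ _ (CommRingCat.isPushout_tensorProduct R B Γ₀)).flip
  let W' : Over S := Over.mk (Spec.map incR₀ ≫ T₀.hom)
  let pT₀ : W' ⟶ T₀ := Over.homMk (Spec.map incR₀) rfl
  let p₀ : W' ⟶ W₀ := Over.homMk (Spec.map incL₀) (by
    show Spec.map incL₀ ≫ Spec.map _ ≫ sR = Spec.map incR₀ ≫ Spec.map _ ≫ sR
    rw [← Category.assoc, ← sq₀'.w, Category.assoc])
  have sq₀ : IsPullback pT₀ p₀ i₂ k₀ := IsPullback.of_map (Over.forget S) (Over.OverMorphism.ext sq₀'.w) sq₀'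
  let m : CommRingCat.of (B ⊗[R] Γ₀) ⟶ CommRingCat.of (B ⊗[R] Γ) :=
    CommRingCat.ofHom (Algebra.TensorProduct.map (AlgHom.id R B) Γ₀.val).toRingHom
  have hmR : incR₀ ≫ m = CommRingCat.ofHom Γ₀.val.toRingHom ≫ incR :=
    CommRingCat.hom_ext (RingHom.ext fun g => by simp [incR₀, m, incR])
  have hmL : incL₀ ≫ m = incL := CommRingCat.hom_ext (RingHom.ext fun g => by simp [incL₀, m, incL])
  let π : W ⟶ W' := Over.homMk (Spec.map m) (by
    show Spec.map m ≫ Spec.map incR₀ ≫ T₀.hom = Spec.map incR ≫ T.hom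
    rw [← Category.assoc, ← Spec.map_comp, hmR, Spec.map_comp, Category.assoc]
    exact congrArg (fun e => Spec.map incR ≫ e) (Over.w τ₀))
  have hπR : π ≫ pT₀ = prT ≫ τ₀ := Over.OverMorphism.ext (by
    show Spec.map m ≫ Spec.map incR₀ = Spec.map incR ≫ Spec.map _
    rw [← Spec.map_comp, hmR, Spec.map_comp])
  have hπL : π ≫ p₀ = pr₀ := Over.OverMorphism.ext (by
    show Spec.map m ≫ Spec.map incL₀ = Spec.map incL
    rw [← Spec.map_comp, hmL])
  have sq₁ : IsPullback prT π τ₀ pT₀ := by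
    have h := sq.flip
    rw [← hπL, hτ] at h
    exact (IsPullback.of_right h hπR sq₀.flip).flip
  let b := BasedFunctor.comp (AlgSt.overMap i₂) y
  obtain ⟨χ₀, hχ₀, hχ₀', ⟨j₀'⟩, ⟨jo₀⟩, -⟩ := exists_chart_baseChange h𝒳 h𝒴 f i₂ y w₀ j₀ hw₀ hw₀' sq₀
  obtain ⟨χ₁, -, -, ⟨j₁⟩, ⟨jo₁⟩, hlift⟩ := exists_chart_baseChange h𝒳 h𝒴 f τ₀ b χ₀ j₀' hχ₀ hχ₀' sq₁
  -- the two charts of the base change agree
  have hcomp : ∀ q : ↥W.left, (AlgSt.Points.ofChart χ q ∈ M ↔
      ∀ q' : ↥W.left, AlgSt.Points.ofChart χ₁ q' = AlgSt.Points.ofChart χ₁ q → AlgSt.Points.ofChart χ q' ∈ M) := by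
    have key : ∀ q q' : ↥W.left, AlgSt.Points.ofChart χ₁ q' = AlgSt.Points.ofChart χ₁ q →
        AlgSt.Points.ofChart χ q' = AlgSt.Points.ofChart χ q := by
      clear hD hE hJ hfib hM hq₁ hp
      revert χ
      rw [hτ]
      intro χ hχ hχ' jT jo q q' hqq
      have io : BasedFunctor.comp (BasedFunctor.comp χ₁ (psi f τ₀ i₂ y)) (omega f (τ₀ ≫ i₂) y) ≅
          BasedFunctor.comp χ (omega f (τ₀ ≫ i₂) y) :=
        whiskerLeftIso χ₁ (psiOmegaIso f τ₀ i₂ y) ≪≫ whiskerRightIso jo₁ (omega f i₂ y) ≪≫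
          whiskerLeftIso (AlgSt.overMap π) jo₀ ≪≫ whiskerRightIso (overMapCompIso π p₀) w₀ ≪≫
          eqToIso (congrArg (fun e => BasedFunctor.comp (AlgSt.overMap e) w₀) hπL) ≪≫ jo.symm
      obtain ⟨e⟩ := nonempty_iso_of_omega f (τ₀ ≫ i₂) y io (j₁ ≪≫ jT.symm)
      rw [← ofChart_congr e q, ← ofChart_congr e q', ofChart_comp, ofChart_comp, hqq]
    exact fun q => ⟨fun hq q' hq' => (key q q' hq').symm ▸ hq, fun h => h q rfl⟩
  let Z : Set ↥W'.left := π.left '' (AlgSt.Points.ofChart χ ⁻¹' M)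
  have hZ : ∀ v ∈ Z, ∀ w, AlgSt.Points.ofChart χ₀ w = AlgSt.Points.ofChart χ₀ v → w ∈ Z := by
    rintro _ ⟨q, hq, rfl⟩ w hw
    obtain ⟨q', hq', rfl⟩ := hlift (AlgSt.Points.ofChart χ₁ q) w (by
      rw [← ofChart_comp, ofChart_congr jo₁, ofChart_overMap, hw])
    exact ⟨q', (hcomp q).1 hq q' hq', rfl⟩
  let p' : ↥T₀.left := τ₀.left p
  have hfibre : ∀ v ∈ closure Z, pT₀.left v ≠ p' := by
    intro v hv he
    have hsub : closure Z ⊆ PrimeSpectrum.zeroLocus (J.comap m.hom : Set (B ⊗[R] Γ₀)) := by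
      refine closure_minimal ?_ (PrimeSpectrum.isClosed_zeroLocus _)
      rintro _ ⟨q, hq, rfl⟩
      intro z hz
      have hq' : q ∈ PrimeSpectrum.zeroLocus (J : Set (B ⊗[R] Γ)) := hJ ▸ hq
      exact hq' hz
    exact hfib₀ v.asIdeal v.isPrime (fun z hz => hsub hv hz) (congrArg PrimeSpectrum.asIdeal he)
  let ω : ↥W'.left := π.left q₁
  have hωZ : ω ∈ Z := ⟨q₁, hq₁, rfl⟩
  have hωp : pT₀.left ω ⤳ p' := by
    have : pT₀.left ω = τ₀.left t₁ := by
      have := congrArg (fun e : W ⟶ T₀ => e.left q₁) hπR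
      exact this.trans (congrArg τ₀.left hqt)
    rw [this]
    exact hsp.map τ₀.left.continuous
  have hne : p' ≠ pT₀.left ω := fun h => hfibre ω (subset_closure hωZ) h.symm
  have : LocallyOfFiniteType k₀.left :=
    (HasRingHomProperty.Spec_iff (P := @LocallyOfFiniteType)).2 (RingHom.finiteType_algebraMap.2 inferInstance)
  have : LocallyOfFiniteType pT₀.left := MorphismProperty.of_isPullback sq₀'.flip this
  have : IsLocallyNoetherian T₀.left := inferInstanceAs (IsLocallyNoetherian (Spec (CommRingCat.of Γ₀)))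
  obtain ⟨A, hA', hAd, hA'c, hA'g⟩ := Groth.Agent.Proj16.exists_dvr_path (p := pT₀.left) hωp hne
  have := hAd
  let κ := W'.left.residueField ω
  let σ : κ →+* FractionRing A := (FractionRing.algEquiv A κ).symm.toRingEquiv.toRingHom
  have eσ : σ.comp (algebraMap A κ) = algebraMap A (FractionRing A) :=
    RingHom.ext fun r => (FractionRing.algEquiv A κ).symm.commutes r
  let η : Spec (CommRingCat.of (FractionRing A)) ⟶ Spec (CommRingCat.of A) :=
    Spec.map (CommRingCat.ofHom (algebraMap A (FractionRing A)))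
  let sA : Spec (CommRingCat.of A) ⟶ S := hA' ≫ T₀.hom
  let iA : Over.mk sA ⟶ T₀ := Over.homMk hA' rfl
  have hη : (Spec.map (CommRingCat.ofHom σ) ≫ W'.left.fromSpecResidueField ω) ≫ pT₀.left = η ≫ hA' := by
    rw [Category.assoc, ← hA'g, ← Category.assoc, ← Spec.map_comp, ← CommRingCat.ofHom_comp]
    exact congrArg (fun r => Spec.map (CommRingCat.ofHom r) ≫ hA') eσ
  let kU : Over.mk (η ≫ sA) ⟶ W' := Over.homMk (Spec.map (CommRingCat.ofHom σ) ≫ W'.left.fromSpecResidueField ω)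
    (by
      show _ ≫ W'.hom = η ≫ hA' ≫ T₀.hom
      rw [← Over.w pT₀, ← Category.assoc, hη, Category.assoc])
  let ηhat : Over.mk (η ≫ sA) ⟶ Over.mk sA := Over.homMk η rfl
  let i : BasedFunctor.comp (BasedFunctor.comp (AlgSt.overMap kU) χ₀) (FibCat.fpSnd f b) ≅
      BasedFunctor.comp (AlgSt.overMap ηhat) (AlgSt.overMap iA) :=
    whiskerLeftIso (AlgSt.overMap kU) j₀' ≪≫ overMapCompIso kU pT₀ ≪≫
      eqToIso (congrArg (fun t => AlgSt.overMap t) (show kU ≫ pT₀ = ηhat ≫ iA from Over.OverMorphism.ext hη)) ≪≫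
      (overMapCompIso ηhat iA).symm
  let L := FibCat.fpLift (BasedFunctor.comp (AlgSt.overMap kU) χ₀) (AlgSt.overMap ηhat) i
  let bA := BasedFunctor.comp (AlgSt.overMap iA) b
  let u := BasedFunctor.comp L (pasteHor f (AlgSt.overMap iA) b)
  let uo : BasedFunctor.comp u (omega f iA b) ≅ BasedFunctor.comp (AlgSt.overMap kU) χ₀ :=
    whiskerLeftIso L (pasteOmegaIso f iA b)
  obtain ⟨R', _, _, _, φ, -, hloc, gψ, c, -, ⟨jc⟩, ⟨ic⟩⟩ :=
    hval A sA (BasedFunctor.comp u (FibCat.fpFst f bA)) bA (whiskerLeftIso u (FibCat.fpIso f bA))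
  let φhat : Over.mk (Spec.map (CommRingCat.ofHom φ) ≫ sA) ⟶ Over.mk sA :=
    Over.homMk (Spec.map (CommRingCat.ofHom φ)) rfl
  let η' : Over.mk (Spec.map (CommRingCat.ofHom (algebraMap R' (FractionRing R'))) ≫
      Spec.map (CommRingCat.ofHom φ) ≫ sA) ⟶ Over.mk (Spec.map (CommRingCat.ofHom φ) ≫ sA) :=
    Over.homMk (Spec.map (CommRingCat.ofHom (algebraMap R' (FractionRing R')))) rfl
  let c₀ := BasedFunctor.comp c (omega f iA b)
  let o : ↥(Spec (CommRingCat.of (FractionRing R'))) := IsLocalRing.closedPoint (FractionRing R')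
  have hgen : AlgSt.Points.ofChart c₀ (η'.left o) = AlgSt.Points.ofChart χ₀ ω := by
    rw [← ofChart_overMap η' c₀ o]
    refine (ofChart_congr (whiskerRightIso ic (omega f iA b) ≪≫ whiskerLeftIso (AlgSt.overMap gψ) uo) o).trans ?_
    rw [ofChart_overMap, ofChart_overMap]
    refine congrArg (AlgSt.Points.ofChart χ₀) ?_
    exact (Scheme.Hom.comp_apply _ _ _).trans (W'.left.fromSpecResidueField_apply ω _)
  obtain ⟨T', k, l, ⟨e⟩, -, hR, hsurj⟩ :=
    exists_chart_fp (fpTest_isFibGrpd h𝒳 h𝒴 f b) c₀ (repByAlgSp1_of_repByAlgSpWith hχ₀)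
  have hk : Smooth k.left := hR @Smooth (fun _ _ g (_ : Etale g) => inferInstanceAs (Smooth g)) hχ₀
  obtain ⟨s, hs⟩ := hsurj hχ₀' (IsLocalRing.closedPoint R')
  have hspR : η'.left o ⤳ k.left s := by
    rw [hs]
    exact IsLocalRing.specializes_closedPoint _
  obtain ⟨s₁, hs₁, hks⟩ := Flat.generalizingMap k.left hspR
  have h1 : l.left s₁ ∈ closure Z := by
    refine closure_saturated (fpTest_isFibGrpd h𝒳 h𝒴 f b) hχ₀ hZ (subset_closure hωZ) ?_
    rw [← hgen, ← hks, ofChart_square e]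
  have h2 : l.left s ∈ closure Z := (hs₁.map l.left.continuous).mem_closed isClosed_closure h1
  refine hfibre _ h2 (eq_of_ptAt (U := T₀) ?_)
  rw [← map_ofChart_overMap j₀', ← ofChart_square e, hs]
  refine (map_ofChart_overMap (x := c₀) (F := FibCat.fpSnd f b) (k := φhat ≫ iA)
    (whiskerRightIso jc (AlgSt.overMap iA) ≪≫ overMapCompIso φhat iA) _).trans ?_
  refine congrArg (ptAt T₀) ?_
  show hA' ((Spec.map (CommRingCat.ofHom φ)) (IsLocalRing.closedPoint R')) = p'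
  rw [closedPoint_map, hA'c]

end Groth.Agent.StVal
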